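import Cfsg.Agent.Lib.PSLSpec.Index

/-! Normalisers and subgroups of maximal tori of `SL₂`. -/

set_option autoImplicit false
set_option maxHeartbeats 800000

namespace Cfsg.Agent.Lib.PSLSpec

open Matrix Cfsg.Agent.Lib.Geometry.Dickson
open Cfsg.Agent.Lib.SL2Trace (tr tr_eq mem_center_iff)

variable {F : Type*} [Field F]

local notation "SL2" => Matrix.SpecialLinearGroup (Fin 2) F
local notation "M2" => Matrix (Fin 2) (Fin 2) F

theorem normalizer_cell (y : SL2) :
    Subgroup.normalizer ((cell ⊤ y : Subgroup SL2) : Set SL2) = cellNorm ⊤ y := by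
  rw [cellNorm, inf_top_eq]

theorem centralizer_eq_cell (y : SL2) : Subgroup.centralizer ({y} : Set SL2) = cell ⊤ y := by
  rw [cell, inf_top_eq]

theorem centralizer_of_mem_cell {y x : SL2} (hy : y ∉ Subgroup.center SL2) (hx : x ∈ cell ⊤ y)
    (hxZ : x ∉ Subgroup.center SL2) : Subgroup.centralizer ({x} : Set SL2) = cell ⊤ y := by
  rw [centralizer_eq_cell, cell_eq ⊤ hy hxZ hx]

/-- The centraliser of a subgroup of a torus that is not central. -/
theorem centralizer_of_le_cell {y x : SL2} (hy : y ∉ Subgroup.center SL2) {P : Subgroup SL2}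
    (hP : P ≤ cell ⊤ y) (hx : x ∈ P) (hxZ : x ∉ Subgroup.center SL2) :
    Subgroup.centralizer ((P : Subgroup SL2) : Set SL2) = cell ⊤ y := by
  refine le_antisymm ?_ fun g hg => ?_
  · rw [← centralizer_of_mem_cell hy (hP hx) hxZ]
    exact Subgroup.centralizer_le (Set.singleton_subset_iff.mpr hx)
  · refine Subgroup.mem_centralizer_iff.mpr fun z hz => ?_
    exact centralizer_comm hy (hP hz).1 hg.1

variable [Fintype F]

theorem card_cellNorm {y : SL2} (hy : y ∉ Subgroup.center SL2) (ht : tr y ^ 2 ≠ 4) :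
    Nat.card (cellNorm ⊤ y) = 2 * Nat.card (cell ⊤ y) := by
  obtain ⟨g, hg, hgc⟩ := exists_inverting hy ht
  rcases torus_index ⊤ (Subgroup.mem_top y) hy ht with h | ⟨h, -⟩
  · exact absurd (Subgroup.eq_of_le_of_card_ge (cell_le_cellNorm ⊤ y) h.le ▸ hg) hgc
  · exact h

/-- The normaliser of a subgroup of a torus that is not central. -/
theorem normalizer_of_le_cell {y x : SL2} (hy : y ∉ Subgroup.center SL2) (ht : tr y ^ 2 ≠ 4) {P : Subgroup SL2}
    (hP : P ≤ cell ⊤ y) (hx : x ∈ P) (hxZ : x ∉ Subgroup.center SL2) :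
    Subgroup.normalizer ((P : Subgroup SL2) : Set SL2) = cellNorm ⊤ y := by
  refine le_antisymm (fun g hg => ?_) fun g hg => ?_
  · refine (mem_cellNorm_iff ⊤).mpr ⟨Subgroup.mem_top g, ?_⟩
    have hgx : g * x * g⁻¹ ∈ P := (Subgroup.mem_normalizer_iff.mp hg x).mp hx
    have hgxZ : g * x * g⁻¹ ∉ Subgroup.center SL2 := fun hz => hxZ (by
      have h := (inferInstance : (Subgroup.center SL2).Normal).conj_mem _ hz g⁻¹
      simpa [mul_assoc] using h)
    rw [← cell_eq ⊤ hy hxZ (hP hx), cell_conj ⊤ (Subgroup.mem_top g), cell_eq ⊤ hy hxZ (hP hx),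
      cell_eq ⊤ hy hgxZ (hP hgx)]
  · haveI := torus_isCyclic (⊤ : Subgroup SL2) hy ht
    have key : ∀ g ∈ cellNorm ⊤ y, ∀ z ∈ P, g * z * g⁻¹ ∈ P := by
      intro g hg z hz
      by_cases hgc : g ∈ cell ⊤ y
      · rw [centralizer_comm hy hgc.1 (hP hz).1, mul_inv_cancel_right]; exact hz
      · rw [torus_inverts ⊤ (Subgroup.mem_top y) hy ht hg hgc (hP hz)]; exact inv_mem hz
    refine Subgroup.mem_normalizer_iff.mpr fun z => ⟨key g hg z, fun hz => ?_⟩
    have h := key g⁻¹ (inv_mem hg) _ hz
    simpa [mul_assoc] using h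

theorem sq_eq_neg_one {y g : SL2} (h2 : (2 : F) ≠ 0) (hy : y ∉ Subgroup.center SL2) (ht : tr y ^ 2 ≠ 4)
    (hg : g ∈ cellNorm ⊤ y) (hgc : g ∉ cell ⊤ y) : g * g = -1 := by
  have hgy : g * y * g⁻¹ = y⁻¹ :=
    torus_inverts ⊤ (Subgroup.mem_top y) hy ht hg hgc (mem_cell_self ⊤ (Subgroup.mem_top y))
  have hg2 : g * g ∈ cell ⊤ y := by
    refine mem_cell_iff.mpr ?_
    have : g * g * y * (g * g)⁻¹ = y := by
      rw [show g * g * y * (g * g)⁻¹ = g * (g * y * g⁻¹) * g⁻¹ by group, hgy,
        show g * y⁻¹ * g⁻¹ = (g * y * g⁻¹)⁻¹ by group, hgy, inv_inv]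
    exact mul_inv_eq_iff_eq_mul.mp this
  have h4 : g * g = (g * g)⁻¹ := by
    rw [← torus_inverts ⊤ (Subgroup.mem_top y) hy ht hg hgc hg2]; group
  have h4' : (g * g) * (g * g) = 1 := mul_eq_one_iff_eq_inv.mpr h4
  have hpm : ∀ z : SL2, z * z = 1 → z = 1 ∨ z = -1 := by
    intro z hz
    have hsq := Cfsg.Agent.Lib.SL2Trace.sq_eq z
    rw [show (z : M2) * (z : M2) = 1 from congrArg (fun e : SL2 => (e : M2)) hz, eq_sub_iff_add_eq] at hsq
    have he : ∀ i j, (2 : F) * (1 : M2) i j = tr z * (z : M2) i j := fun i j => by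
      have := congrFun (congrFun hsq i) j
      simp only [Matrix.add_apply, Matrix.smul_apply, smul_eq_mul] at this
      linear_combination this
    have htz : tr z ≠ 0 := fun h0 => h2 (by simpa [h0] using he 0 0)
    refine Cfsg.Agent.Lib.SL2Trace.eq_scalar_of_entries ?_ ?_ ?_
    · exact (mul_eq_zero.mp (by simpa using (he 1 0).symm)).resolve_left htz
    · exact (mul_eq_zero.mp (by simpa using (he 0 1).symm)).resolve_left htz
    · exact mul_left_cancel₀ htz (by rw [← he 0 0, ← he 1 1]; simp)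
  rcases hpm _ h4' with h | h
  · exfalso
    rcases hpm g h with rfl | rfl
    · exact hgc (one_mem _)
    · exact hgc (center_le_cell ⊤ le_top y (mem_center_iff.mpr (Or.inr rfl)))
  · exact h

/-- Every nonsplit element is conjugate into a given nonsplit torus. -/
theorem exists_conj_mem_nonsplit {y g : SL2} (h2 : (2 : F) ≠ 0) (hs : ¬ IsSplit y) (hg : ¬ IsSplit g) :
    ∃ h : SL2, h * g * h⁻¹ ∈ cell ⊤ y := by
  classical
  have hns : ∀ z : SL2, ¬ IsSplit z → quadraticChar F (tr z ^ 2 - 4) = -1 := by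
    intro z hz
    rw [quadraticChar_neg_one_iff_not_isSquare]
    rintro ⟨d, hd⟩
    exact hz ⟨(tr z + d) / 2, by field_simp; linear_combination -hd⟩
  have hy0 : tr y ^ 2 - 4 ≠ 0 := fun h => by simpa [h] using hns y hs
  have hg0 : tr g ^ 2 - 4 ≠ 0 := fun h => by simpa [h] using hns g hg
  obtain ⟨b, hb⟩ : IsSquare ((tr g ^ 2 - 4) / (tr y ^ 2 - 4)) := by
    rw [show (tr g ^ 2 - 4) / (tr y ^ 2 - 4) = ((tr g ^ 2 - 4) * (tr y ^ 2 - 4)) / ((tr y ^ 2 - 4) * (tr y ^ 2 - 4)) by
      field_simp]
    refine IsSquare.div ?_ (IsSquare.mul_self _)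
    rw [← quadraticChar_one_iff_isSquare (mul_ne_zero hg0 hy0), map_mul, hns y hs, hns g hg]
    norm_num
  rw [div_eq_iff hy0] at hb
  set a := (tr g - b * tr y) / 2 with ha
  let x : SL2 := ⟨a • (1 : M2) + b • (y : M2), by
    rw [Cfsg.Agent.Lib.KnownA.det_add_smul, show (y : M2).det = 1 from y.2, mul_one,
      show (y : M2).trace = tr y from rfl, ha]
    field_simp
    linear_combination hb⟩
  have hx : x ∈ cell ⊤ y := mem_cell_iff.mpr (sl_ext (Cfsg.Agent.Lib.KnownA.commute_add_smul _ a b))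
  have htx : tr g = tr x := by
    show _ = (a • (1 : M2) + b • (y : M2)).trace
    rw [trace_add, trace_smul, trace_smul, trace_one, Fintype.card_fin, smul_eq_mul, smul_eq_mul,
      show (y : M2).trace = tr y from rfl, ha]
    field_simp
    push_cast
    ring
  obtain ⟨h, hh⟩ := isConj_iff.mp (Cfsg.Agent.Lib.SL2Trace.isConj_of_tr_eq htx
    (fun e => hg0 (by linear_combination e)))
  exact ⟨h, hh ▸ hx⟩

/-- The number of classes of the normaliser of a torus. -/
theorem card_conjClasses_cellNorm {y : SL2} (h2 : (2 : F) ≠ 0) (hy : y ∉ Subgroup.center SL2)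
    (ht : tr y ^ 2 ≠ 4) :
    Nat.card (ConjClasses (cellNorm ⊤ y)) * 2 = Nat.card (cell ⊤ y) + 6 := by
  classical
  set T := cell ⊤ y with hT
  set N := cellNorm ⊤ y with hN
  haveI := Fintype.ofFinite N
  haveI := Fintype.ofFinite T
  have hle : T ≤ N := cell_le_cellNorm ⊤ y
  have hcN : Nat.card N = 2 * Nat.card T := card_cellNorm hy ht
  have hneg : (-1 : SL2) ≠ 1 := fun h => by
    have := congrArg (fun e : SL2 => (e : M2) 0 0) h
    simp at this
    exact h2 (by linear_combination -this)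
  have hZ : Nat.card (Subgroup.center SL2) = 2 := by
    rw [Nat.card_eq_two_iff]
    refine ⟨1, ⟨-1, mem_center_iff.mpr (Or.inr rfl)⟩, fun h => hneg (congrArg Subtype.val h).symm, ?_⟩
    ext ⟨z, hz⟩
    rcases mem_center_iff.mp hz with rfl | rfl <;> simp
  have hZT : Subgroup.center SL2 ≤ T := center_le_cell ⊤ le_top y
  obtain ⟨g₀, hg₀, hg₀c⟩ := exists_inverting hy ht
  -- centraliser sizes inside `N`
  let c : N → ℕ := fun n => Nat.card {m : N // Commute n m}
  have hc : ∀ n : N, c n =
      if (n : SL2) ∈ Subgroup.center SL2 then Nat.card N else if (n : SL2) ∈ T then Nat.card T else 4 := by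
    intro n
    have hpre : c n = Nat.card ((Subgroup.centralizer ({(n : SL2)} : Set SL2) ⊓ N : Subgroup SL2)) := by
      refine Nat.card_congr
        { toFun := fun m => ⟨(m.1 : SL2), Subgroup.mem_centralizer_singleton_iff.mpr
            (congrArg Subtype.val m.2).symm, m.1.2⟩
          invFun := fun m => ⟨⟨m.1, m.2.2⟩, Subtype.ext (Subgroup.mem_centralizer_singleton_iff.mp m.2.1).symm⟩
          left_inv := fun m => rfl
          right_inv := fun m => rfl }
    rw [hpre]
    split_ifs with h1 h3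
    · rw [Subgroup.centralizer_eq_top_iff_subset.mpr (Set.singleton_subset_iff.mpr h1), top_inf_eq]
    · rw [centralizer_of_mem_cell hy h3 h1, inf_eq_left.mpr hle]
    · set K := Subgroup.centralizer ({(n : SL2)} : Set SL2) ⊓ N
      have hi : ∀ x ∈ T, x * (n : SL2) = (n : SL2) * x → x ∈ Subgroup.center SL2 := by
        intro x hx hxn
        by_contra hxZ
        have : (n : SL2) ∈ Subgroup.centralizer ({x} : Set SL2) :=
          Subgroup.mem_centralizer_singleton_iff.mpr hxn.symm
        rw [centralizer_of_mem_cell hy hx hxZ] at this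
        exact h3 this
      have hKT : T.subgroupOf K = (Subgroup.center SL2).subgroupOf K := by
        ext m
        simp only [Subgroup.mem_subgroupOf]
        exact ⟨fun hm => hi _ hm (Subgroup.mem_centralizer_singleton_iff.mp m.2.1), fun hm => hZT hm⟩
      have hZK : Subgroup.center SL2 ≤ K := fun z hz =>
        ⟨Subgroup.mem_centralizer_singleton_iff.mpr (Subgroup.mem_center_iff.mp hz _).symm, hle (hZT hz)⟩
      have hidx : (T.subgroupOf K).index = 2 := by
        refine Subgroup.index_eq_two_iff.mpr ⟨⟨n, Subgroup.mem_centralizer_singleton_iff.mpr rfl, n.2⟩, fun b => ?_⟩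
        rw [xor_iff_not_iff, Subgroup.mem_subgroupOf, Subgroup.mem_subgroupOf]
        show ¬ ((b : SL2) * (n : SL2) ∈ T ↔ (b : SL2) ∈ T)
        intro hiff
        by_cases hb : (b : SL2) ∈ T
        · exact h3 ((T.mul_mem_cancel_left hb).mp (hiff.mpr hb))
        · refine hb (hiff.mp ?_)
          have hNc := Subgroup.index_eq_two_iff.mp (show (T.subgroupOf N).index = 2 by
            have h := (T.subgroupOf N).index_mul_card
            rw [Nat.card_congr (Subgroup.subgroupOfEquivOfLe hle).toEquiv, hcN] at h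
            exact Nat.eq_of_mul_eq_mul_right Nat.card_pos h)
          have := Subgroup.mul_mem_iff_of_index_two (show (T.subgroupOf N).index = 2 by
            have h := (T.subgroupOf N).index_mul_card
            rw [Nat.card_congr (Subgroup.subgroupOfEquivOfLe hle).toEquiv, hcN] at h
            exact Nat.eq_of_mul_eq_mul_right Nat.card_pos h) (a := ⟨b, b.2.2⟩) (b := n)
          simp only [Subgroup.mem_subgroupOf, Subgroup.coe_mul] at this
          exact this.mpr (iff_of_false hb h3)
      have h := (T.subgroupOf K).index_mul_card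
      rw [hidx, hKT, Nat.card_congr (Subgroup.subgroupOfEquivOfLe hZK).toEquiv, hZ] at h
      exact h.symm
  have hsum : Nat.card (ConjClasses N) * Nat.card N = ∑ n : N, c n := by
    rw [← card_comm_eq_card_conjClasses_mul_card, Nat.card_congr
      (show {p : N × N // Commute p.1 p.2} ≃ Σ n : N, {m : N // Commute n m} from
        { toFun := fun p => ⟨p.1.1, p.1.2, p.2⟩
          invFun := fun p => ⟨(p.1, p.2.1), p.2.2⟩
          left_inv := fun p => rfl
          right_inv := fun p => rfl }), Nat.card_sigma]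
  have hA : (Finset.univ.filter fun n : N => (n : SL2) ∈ Subgroup.center SL2).card = 2 := by
    rw [← Fintype.card_subtype, ← Nat.card_eq_fintype_card]
    exact (Nat.card_congr (Subgroup.subgroupOfEquivOfLe (hZT.trans hle)).toEquiv).trans hZ
  have hB : (Finset.univ.filter fun n : N => (n : SL2) ∈ T).card = Nat.card T := by
    rw [← Fintype.card_subtype, ← Nat.card_eq_fintype_card]
    exact Nat.card_congr (Subgroup.subgroupOfEquivOfLe hle).toEquiv
  have hBA : (Finset.univ.filter fun n : N => ¬ (n : SL2) ∈ Subgroup.center SL2 ∧ (n : SL2) ∈ T).card + 2 =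
      Nat.card T := by
    refine (congrArg _ hA.symm).trans ?_
    rw [← hB, ← Finset.card_union_of_disjoint]
    · congr 1
      ext n
      simp only [Finset.mem_union, Finset.mem_filter, Finset.mem_univ, true_and]
      exact ⟨fun h => h.elim (·.2) fun h => hZT h, fun h => (em _).elim Or.inr fun h' => Or.inl ⟨h', h⟩⟩
    · rw [Finset.disjoint_filter]
      exact fun n _ h h' => h.1 h'
  have hC : (Finset.univ.filter fun n : N => ¬ (n : SL2) ∈ Subgroup.center SL2 ∧ ¬ (n : SL2) ∈ T).card =
      Nat.card T := by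
    have h := Finset.card_filter_add_card_filter_not (s := (Finset.univ : Finset N)) (fun n : N => (n : SL2) ∈ T)
    rw [hB, Finset.card_univ, ← Nat.card_eq_fintype_card, hcN] at h
    have e : (Finset.univ.filter fun n : N => ¬ (n : SL2) ∈ Subgroup.center SL2 ∧ ¬ (n : SL2) ∈ T) =
        Finset.univ.filter fun n : N => ¬ (n : SL2) ∈ T := by
      ext n
      simp only [Finset.mem_filter, Finset.mem_univ, true_and]
      exact ⟨fun h => h.2, fun h => ⟨fun hz => h (hZT hz), h⟩⟩
    rw [e]
    omega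
  simp only [hc, Finset.sum_ite, Finset.sum_const, smul_eq_mul, Finset.filter_filter] at hsum
  rw [hA, hC, hcN] at hsum
  have hpos : 0 < Nat.card T := Nat.card_pos
  refine Nat.eq_of_mul_eq_mul_right hpos ?_
  rw [mul_assoc, hsum]
  set k := (Finset.univ.filter fun n : N => ¬ (n : SL2) ∈ Subgroup.center SL2 ∧ (n : SL2) ∈ T).card
  rw [← hBA]
  ring

end Cfsg.Agent.Lib.PSLSpec
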