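import Cfsg.Agent.Lib.Geometry.Dickson.Tori

/-! Class sizes in `PSL₂`. -/

set_option autoImplicit false
set_option maxHeartbeats 800000

namespace Cfsg.Agent.Lib.PSLSpec

open Matrix Cfsg.Agent.Lib.Geometry.Dickson
open Cfsg.Agent.Lib.SL2Trace (tr tr_eq toPSL toPSL_surjective toPSL_eq toPSL_eq_one mem_center_iff)

variable {F : Type*} [Field F]

local notation "SL2" => Matrix.SpecialLinearGroup (Fin 2) F
local notation "M2" => Matrix (Fin 2) (Fin 2) F
local notation "PSL2" => Matrix.ProjectiveSpecialLinearGroup (Fin 2) F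

theorem mem_comap_centralizer {X h : SL2} :
    h ∈ (Subgroup.centralizer ({toPSL X} : Set PSL2)).comap toPSL ↔ X * h = h * X ∨ X * h = -(h * X) := by
  rw [Subgroup.mem_comap, Subgroup.mem_centralizer_singleton_iff, ← map_mul, ← map_mul, toPSL_eq]

theorem mem_cell_iff {X h : SL2} : h ∈ cell ⊤ X ↔ h * X = X * h := by
  rw [← mem_centralizer_iff]
  exact ⟨fun hh => hh.1, fun hh => ⟨hh, Subgroup.mem_top _⟩⟩

theorem neg_eq_conj {X h : SL2} (e : X * h = -(h * X)) : h⁻¹ * X * h = -X := by
  rw [mul_assoc, e]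
  refine Subtype.ext ?_
  simp [← mul_assoc, ← Matrix.SpecialLinearGroup.coe_mul, -Matrix.SpecialLinearGroup.coe_inv]

/-- Outside trace zero, the centraliser in `PSL₂` comes from the one in `SL₂`. -/
theorem index_centralizer_of_tr {X : SL2} (h : tr X ≠ 0 ∨ (2 : F) = 0) :
    (Subgroup.centralizer ({toPSL X} : Set PSL2)).index = (cell ⊤ X).index := by
  rw [← Subgroup.index_comap_of_surjective _ (toPSL_surjective (F := F))]
  congr 1
  ext g
  rw [mem_comap_centralizer, mem_cell_iff]
  refine ⟨fun hg => ?_, fun hg => Or.inl hg.symm⟩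
  rcases hg with e | e
  · exact e.symm
  · by_cases h2 : (2 : F) = 0
    · have hneg : ∀ A : SL2, -A = A := fun A => Subtype.ext (by
        ext i j; simp; linear_combination -(A : M2) i j * h2)
      rw [e, hneg]
    · exfalso
      have h1 := Cfsg.Agent.Lib.SL2Trace.tr_conj X g⁻¹
      rw [inv_inv, neg_eq_conj e, Cfsg.Agent.Lib.SL2Trace.tr_neg] at h1
      have h3 : (2 : F) * tr X = 0 := by linear_combination -h1
      exact (h.resolve_right h2) ((mul_eq_zero.mp h3).resolve_left h2)

variable [Fintype F]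

/-- At trace zero the centraliser in `PSL₂` is twice as large. -/
theorem index_centralizer_tr_zero {X : SL2} (h2 : (2 : F) ≠ 0) (h : tr X = 0) :
    (cell ⊤ X).index = 2 * (Subgroup.centralizer ({toPSL X} : Set PSL2)).index := by
  set P := (Subgroup.centralizer ({toPSL X} : Set PSL2)).comap toPSL with hP
  have hle : cell ⊤ X ≤ P := fun g hg => mem_comap_centralizer.mpr (Or.inl (mem_cell_iff.mp hg).symm)
  rw [← Subgroup.index_comap_of_surjective _ (toPSL_surjective (F := F)), ← hP,
    ← Subgroup.relIndex_mul_index hle]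
  congr 1
  obtain ⟨a, ha⟩ := isConj_iff.mp (Cfsg.Agent.Lib.SL2Trace.isConj_of_tr_eq (A := X) (B := -X)
    (by rw [Cfsg.Agent.Lib.SL2Trace.tr_neg, h, neg_zero]) (by
      rw [h, sq, mul_zero, show (4 : F) = 2 * 2 by norm_num]
      exact (mul_ne_zero h2 h2).symm))
  have ha' : X * a = -(a * X) := by
    have h0 : a * X = -X * a := mul_inv_eq_iff_eq_mul.mp ha
    rw [h0]
    exact Subtype.ext (by simp)
  have hne : ∀ g : SL2, X * g ≠ -(X * g) := fun g e => by
    apply h2
    have hm : ((X * g : SL2) : M2) = -((X * g : SL2) : M2) := by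
      conv_lhs => rw [e]
      simp
    have hd := (X * g).det_coe
    have hz : ((X * g : SL2) : M2) = 0 := by
      ext i j
      have := congrFun (congrFun hm i) j
      simp only [Matrix.neg_apply] at this
      exact (mul_eq_zero.mp (show (2 : F) * ((X * g : SL2) : M2) i j = 0 by linear_combination this)).resolve_left h2
    rw [hz, Matrix.det_zero] at hd
    exact absurd hd zero_ne_one
  refine Subgroup.index_eq_two_iff.mpr ⟨⟨a, mem_comap_centralizer.mpr (Or.inr ha')⟩, fun b => ?_⟩
  rcases b with ⟨b, hb⟩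
  simp only [Subgroup.mem_subgroupOf, Subgroup.coe_mul, mem_cell_iff]
  rcases mem_comap_centralizer.mp hb with e | e
  · refine Or.inr ⟨e.symm, fun e' => hne (b * a) ?_⟩
    conv_lhs => rw [← mul_assoc, e, mul_assoc, ha']
    rw [← e', mul_assoc]
    exact Subtype.ext (by simp)
  · refine Or.inl ⟨?_, fun e' => hne b ?_⟩
    · rw [← mul_assoc X, e]
      apply Subtype.ext
      simp only [Matrix.SpecialLinearGroup.coe_mul, Matrix.SpecialLinearGroup.coe_neg, neg_mul, Matrix.mul_assoc]
      have := congrArg (fun g : SL2 => (g : M2)) ha'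
      simp only [Matrix.SpecialLinearGroup.coe_mul, Matrix.SpecialLinearGroup.coe_neg] at this
      rw [this, Matrix.mul_neg, neg_neg]
    · conv_lhs => rw [e]
      rw [e']

theorem card_mul_index_cell (y : SL2) :
    Nat.card (cell ⊤ y) * (cell ⊤ y).index = Fintype.card F * (Fintype.card F ^ 2 - 1) := by
  rw [Subgroup.card_mul_index, Cfsg.Agent.Lib.KnownA.card_SL2]

theorem card_sqrt_one_two (h : (2 : F) = 0) : Nat.card {s : F // s * s = 1} = 1 := by
  classical
  rw [Nat.card_eq_fintype_card, Fintype.card_subtype,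
    show (Finset.univ.filter fun s : F => s * s = 1) = {1, -1} by ext s; simp [mul_self_eq_one_iff],
    show (-1 : F) = 1 by linear_combination -h]
  simp

theorem card_sqrt_one_odd (h : (2 : F) ≠ 0) : Nat.card {s : F // s * s = 1} = 2 := by
  classical
  rw [Nat.card_eq_fintype_card, Fintype.card_subtype,
    show (Finset.univ.filter fun s : F => s * s = 1) = {1, -1} by ext s; simp [mul_self_eq_one_iff]]
  exact Finset.card_pair fun e => h (by linear_combination e)

/-- A regular torus element of trace other than zero. -/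
theorem exists_tr_ne_zero {y : SL2} (hy : y ∉ Subgroup.center SL2) (ht : tr y ^ 2 ≠ 4)
    (hc : 4 < Nat.card (cell ⊤ y)) :
    ∃ x : SL2, tr x ≠ 0 ∧ Nat.card (cell ⊤ x) = Nat.card (cell ⊤ y) := by
  haveI := torus_isCyclic (⊤ : Subgroup SL2) hy ht
  obtain ⟨x, hx⟩ := IsCyclic.exists_ofOrder_eq_natCard (α := cell ⊤ y)
  rw [← Subgroup.orderOf_coe] at hx
  have hxZ : (x : SL2) ∉ Subgroup.center SL2 := fun hz => by
    have : orderOf (x : SL2) ≤ 2 := Nat.le_of_dvd (by norm_num) (orderOf_dvd_of_pow_eq_one (by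
      rcases mem_center_iff.mp hz with e | e <;> rw [e]
      · exact one_pow 2
      · exact Subtype.ext (by simp [sq])))
    omega
  refine ⟨x, fun h0 => ?_, by rw [cell_eq ⊤ hy hxZ x.2]⟩
  have h4 : (x : SL2) ^ 4 = 1 := Subtype.ext (by
    rw [Matrix.SpecialLinearGroup.coe_pow, show (4 : ℕ) = 2 * 2 from rfl, pow_mul, sq ((x : SL2) : M2),
      Cfsg.Agent.Lib.SL2Trace.sq_eq, h0, zero_smul, zero_sub, sq, neg_mul_neg, mul_one,
      Matrix.SpecialLinearGroup.coe_one])
  have := Nat.le_of_dvd (by norm_num) (orderOf_dvd_of_pow_eq_one h4)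
  omega

theorem notMem_center_of_tr {X : SL2} (ht : tr X ^ 2 ≠ 4) : X ∉ Subgroup.center SL2 := fun hz => by
  rcases mem_center_iff.mp hz with e | e <;> exact ht (by rw [e, tr_eq]; simp; norm_num)

theorem card_cell_regular {X : SL2} (ht : tr X ^ 2 ≠ 4) :
    (IsSplit X ∧ Nat.card (cell ⊤ X) = Fintype.card F - 1) ∨
      (¬ IsSplit X ∧ Nat.card (cell ⊤ X) = Fintype.card F + 1) := by
  by_cases hs : IsSplit X
  · exact Or.inl ⟨hs, card_cell_split (notMem_center_of_tr ht) ht hs⟩
  · exact Or.inr ⟨hs, card_cell_nonsplit (notMem_center_of_tr ht) ht hs⟩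

/-- The centraliser of a noncentral element with trace `±2`. -/
theorem card_cell_unipotent {X : SL2} (hX : X ∉ Subgroup.center SL2) (ht : tr X ^ 2 = 4) :
    Nat.card (cell ⊤ X) = Nat.card {s : F // s * s = 1} * Fintype.card F := by
  obtain ⟨ε, hε, hte⟩ := exists_eps ht
  rw [show Nat.card (cell ⊤ X) = Nat.card (Subgroup.centralizer ({X} : Set SL2)) by
    unfold cell; rw [inf_top_eq], Cfsg.Agent.Lib.KnownA.card_centralizer_SL2
      (not_isScal_of_notMem_center hX), ← Nat.card_eq_fintype_card (α := F),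
    ← Nat.card_prod]
  have ht' : (X : M2).trace = 2 * ε := hte
  rw [ht']
  refine Nat.card_congr
    { toFun := fun v => (⟨v.1.1 + ε * v.1.2, by
        have := v.2; linear_combination this + v.1.2 * v.1.2 * hε⟩, v.1.2)
      invFun := fun w => ⟨(w.1.1 - ε * w.2, w.2), by
        linear_combination w.1.2 - w.2 * w.2 * hε⟩
      left_inv := fun v => by simp
      right_inv := fun w => by simp }

end Cfsg.Agent.Lib.PSLSpec
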