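import Cfsg.Agent.Lib.KnownA.RootClosure

/-! `SL_{n+1}` from one root subgroup and the cyclic monomial matrix. -/

set_option autoImplicit false
set_option maxHeartbeats 800000

namespace Cfsg.Agent.Lib.PSLSpec

open Matrix Cfsg.Agent.Lib.KnownA

variable {K : Type*} [Field K] {n : ℕ}

local notation "SLn" => Matrix.SpecialLinearGroup (Fin (n + 1)) K
local notation "Mn" => Matrix (Fin (n + 1)) (Fin (n + 1)) K

/-- The cyclic monomial matrix. -/
def cycMat (K : Type*) [Field K] (n : ℕ) : Matrix (Fin (n + 1)) (Fin (n + 1)) K :=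
  Matrix.of (fun i j => if j.val = i.val + 1 then 1 else if i.val = n ∧ j.val = 0 then (-1) ^ n else 0)

/-- The signs of the cyclic monomial matrix. -/
def cycSign (K : Type*) [Field K] (n : ℕ) (i : Fin (n + 1)) : K := if i.val = n then (-1) ^ n else 1

theorem cycSign_ne (i : Fin (n + 1)) : cycSign K n i ≠ 0 := by
  unfold cycSign; split_ifs
  · exact pow_ne_zero _ (neg_ne_zero.mpr one_ne_zero)
  · exact one_ne_zero

theorem val_add_one_cases (i : Fin (n + 1)) :
    (i.val = n ∧ (i + 1).val = 0) ∨ (i.val < n ∧ (i + 1).val = i.val + 1) := by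
  by_cases h : i = Fin.last n
  · subst h; exact Or.inl ⟨rfl, by simp⟩
  · exact Or.inr ⟨Fin.val_lt_last h, Fin.val_add_one_of_lt (Fin.lt_last_iff_ne_last.mpr h)⟩

theorem cycMat_eq (i j : Fin (n + 1)) : cycMat K n i j = if j = i + 1 then cycSign K n i else 0 := by
  simp only [cycMat, cycSign, Matrix.of_apply, Fin.ext_iff]
  have := j.isLt
  rcases val_add_one_cases i with ⟨h1, h2⟩ | ⟨h1, h2⟩ <;> rw [h2] <;>
    split_ifs <;> first | rfl | (exfalso; omega)

theorem cycMat_mulVec (i : Fin (n + 1)) :
    cycMat K n *ᵥ Pi.single (i + 1) 1 = cycSign K n i • Pi.single i (1 : K) := by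
  ext m
  rw [Matrix.mulVec_single_one, Matrix.col_apply, cycMat_eq]
  by_cases h : m = i
  · subst h; simp
  · rw [if_neg (fun e => h (add_right_cancel e.symm))]; simp [h]

theorem vecMul_cycMat (j : Fin (n + 1)) (c : K) :
    Pi.single j c ᵥ* cycMat K n = Pi.single (j + 1) (c * cycSign K n j) := by
  ext m
  rw [Matrix.single_vecMul, Pi.smul_apply, Matrix.row_apply, smul_eq_mul, cycMat_eq]
  by_cases h : m = j + 1
  · subst h; simp
  · rw [if_neg h, mul_zero]; simp [h]

theorem add_one_ne (hn : 1 ≤ n) (i : Fin (n + 1)) : i ≠ i + 1 := fun h => by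
  rcases val_add_one_cases i with ⟨h1, h2⟩ | ⟨h1, h2⟩ <;> rw [← h] at h2 <;> omega

/-- Everything follows from one root subgroup and the cycle. -/
theorem eq_top_of_cycle (hn : 1 ≤ n) {H : Subgroup SLn} {w : SLn} (hw : (w : Mn) = cycMat K n) (hwH : w ∈ H)
    (hbase : ∀ c : K, InR H (0 : Fin (n + 1)) 1 c) : H = ⊤ := by
  have step : ∀ i : Fin (n + 1), (∀ c, InR H (i + 1) (i + 1 + 1) c) → ∀ c, InR H i (i + 1) c := by
    intro i hi c
    have h1 := (inR_iff (add_one_ne hn (i + 1))).mp
      (hi (c / cycSign K n i * cycSign K n (i + 1)))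
    have h2 := InT.conj (a' := cycSign K n i • Pi.single i (1 : K))
      (φ' := Pi.single (i + 1) (c / cycSign K n i)) hwH h1 (by rw [hw]; exact cycMat_mulVec i)
      (by rw [hw]; exact vecMul_cycMat _ _)
    obtain ⟨g, hg, hgm⟩ := h2
    refine inR_mk ⟨g, hg, hgm.trans ?_⟩
    congr 1
    ext a b
    simp only [vecMulVec_apply, Pi.smul_apply, smul_eq_mul, Pi.single_apply]
    have := cycSign_ne (K := K) i
    split_ifs <;> field_simp <;> ring
  have all1 : ∀ j : Fin (n + 1), ∀ c, InR H (-j) (-j + 1) c := by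
    intro j
    induction j using Fin.induction with
    | zero => intro c; rw [neg_zero, zero_add]; exact hbase c
    | succ j ih =>
      have e : -j.succ + 1 = -j.castSucc := by
        rw [← Fin.coeSucc_eq_succ]; abel
      exact step _ (by rw [e]; exact ih)
  have adjR : ∀ i : Fin (n + 1), ∀ c, InR H i (i + 1) c := fun i => by
    have := all1 (-i); rwa [neg_neg] at this
  have allR : ∀ (j i : Fin (n + 1)) (c : K), InR H i (i + j) c := by
    intro j
    induction j using Fin.induction with
    | zero => intro i c h; exact absurd (add_zero i).symm h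
    | succ j ih =>
      intro i c
      rw [show i + j.succ = i + j.castSucc + 1 by rw [← Fin.coeSucc_eq_succ, add_assoc]]
      by_cases h0 : i = i + j.castSucc
      · rw [← h0]; exact adjR i c
      · rw [← mul_one c]
        exact InR.mul h0 (add_one_ne hn _) (ih i c) (adjR _ 1)
  refine eq_top_of_inR fun i j c => ?_
  have := allR (j - i) i c
  rwa [add_sub_cancel] at this

/-- Extending with the centre. -/
theorem sup_center_eq_top {H : Subgroup SLn} (h : H = ⊤) : H ⊔ Subgroup.center SLn = ⊤ := by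
  rw [h, top_sup_eq]

end Cfsg.Agent.Lib.PSLSpec
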